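import Groth.Agent.Lib.UnivHomeoRing26.Subalg
import Groth.Agent.Lib.UnivHomeo.Basic
import Mathlib.RingTheory.IntegralClosure.Algebra.Basic
import Mathlib.RingTheory.Spectrum.Prime.Topology

/-!
# Relative weak normalisation and seminormalisation
-/

universe u

set_option linter.style.haveILetI false

open CategoryTheory AlgebraicGeometry TensorProduct

namespace Groth.Agent.WeakNorm12

variable (A : Type u) [CommRing A]

/-- Field valued points of `W` over `A` are determined by their restriction to `A`. -/
def Pts (W : Type u) [CommRing W] [Algebra A W] : Prop :=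
  ∀ (L : Type u) [Field L] (g g' : W →+* L),
    g.comp (algebraMap A W) = g'.comp (algebraMap A W) → g = g'

variable {A} {W V : Type u} [CommRing W] [Algebra A W] [CommRing V] [Algebra A V]

theorem pts_of_equiv (e : W ≃ₐ[A] V) (h : Pts A W) : Pts A V := by
  intro L _ g g' hg
  have h0 := h L (g.comp e.toAlgHom.toRingHom) (g'.comp e.toAlgHom.toRingHom) (RingHom.ext fun a => by
    show g (e (algebraMap A W a)) = g' (e (algebraMap A W a))
    rw [AlgEquiv.commutes]
    exact RingHom.congr_fun hg a)
  refine RingHom.ext fun v => ?_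
  obtain ⟨w, rfl⟩ := e.surjective v
  exact RingHom.congr_fun h0 w

theorem pts_of_univHomeo
    (h : FlatMor.IsUnivHomeo (Spec.map (CommRingCat.ofHom (algebraMap A W)))) : Pts A W :=
  fun L _ => UnivHomeoRing26.hom_ext_field h L

/-- Integral, points determined by the base, nilpotent kernel: universal homeomorphism. -/
theorem isUnivHomeo_of_pts [Algebra.IsIntegral A W] (hp : Pts A W)
    (hk : RingHom.ker (algebraMap A W) ≤ nilradical A) :
    FlatMor.IsUnivHomeo (Spec.map (CommRingCat.ofHom (algebraMap A W))) := by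
  refine UnivHomeoRing26.isUnivHomeo_of _ (fun w => Algebra.IsIntegral.isIntegral w) (fun p => ?_) hp
  obtain ⟨q, -, hq, e⟩ := Ideal.exists_ideal_over_prime_of_isIntegral (S := W) p.asIdeal ⊥
    (fun a ha => by
      have : a ∈ RingHom.ker (algebraMap A W) := ha
      exact nilradical_le_prime p.asIdeal (hk this))
  exact ⟨⟨q, hq⟩, PrimeSpectrum.ext e⟩

/-- Points of a subalgebra of elements `b` with `b ⊗ 1 - 1 ⊗ b` nilpotent are determined by `A`. -/
theorem pts_subalgebra [Algebra.IsIntegral A W] (D : Subalgebra A W)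
    (hD : D ≤ UnivHomeoRing26.wn A W) : Pts A D := by
  intro L _ g g' he
  let Lb := AlgebraicClosure L
  let i := algebraMap L Lb
  have hintB : D.val.toRingHom.IsIntegral := fun b => by
    refine RingHom.IsIntegralElem.of_comp (f := algebraMap A D) ?_
    exact Algebra.IsIntegral.isIntegral (R := A) b
  obtain ⟨h, hh⟩ := UnivHomeoRing26.exists_extend _ Subtype.val_injective hintB (i.comp g)
  obtain ⟨h', hh'⟩ := UnivHomeoRing26.exists_extend _ Subtype.val_injective hintB (i.comp g')
  have hA : ∀ a, h (algebraMap A W a) = h' (algebraMap A W a) := fun a =>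
    (RingHom.congr_fun hh (algebraMap A D a)).trans
      ((congrArg i (RingHom.congr_fun he a)).trans (RingHom.congr_fun hh' (algebraMap A D a)).symm)
  letI : Algebra A Lb := (h.comp (algebraMap A W)).toAlgebra
  let k₁ : W →ₐ[A] Lb := { h with commutes' := fun _ => rfl }
  let k₂ : W →ₐ[A] Lb := { h' with commutes' := fun a => (hA a).symm }
  refine RingHom.ext fun e => i.injective ?_
  have h0 := (UnivHomeoRing26.mem_wn.1 (hD e.2)).map
    (Algebra.TensorProduct.lift k₁ k₂ fun _ _ => Commute.all _ _)
  rw [map_sub, Algebra.TensorProduct.lift_tmul, Algebra.TensorProduct.lift_tmul, map_one, map_one, mul_one,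
    one_mul, isNilpotent_iff_eq_zero, sub_eq_zero] at h0
  exact ((RingHom.congr_fun hh e).symm.trans (h0 : h e = h' e)).trans (RingHom.congr_fun hh' e)

theorem range_le_wn (g : V →ₐ[A] W) (hV : Pts A V) : g.range ≤ UnivHomeoRing26.wn A W := by
  rintro _ ⟨c, rfl⟩
  rw [UnivHomeoRing26.mem_wn, nilpotent_iff_mem_prime]
  intro P hP
  haveI := hP
  let π : W ⊗[A] W →+* P.ResidueField := algebraMap (W ⊗[A] W) P.ResidueField
  let l := (Algebra.TensorProduct.includeLeft : W →ₐ[A] W ⊗[A] W).comp g
  let r := (Algebra.TensorProduct.includeRight : W →ₐ[A] W ⊗[A] W).comp g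
  have e := hV P.ResidueField (π.comp l.toRingHom) (π.comp r.toRingHom) (RingHom.ext fun a =>
    congrArg π ((AlgHom.commutes l a).trans (AlgHom.commutes r a).symm))
  refine Ideal.algebraMap_residueField_eq_zero.1 ?_
  rw [map_sub]
  exact sub_eq_zero.2 (RingHom.congr_fun e c)

variable (A W) in
/-- Elements which are fractions of elements of `A` at every prime. -/
def resSub : Subalgebra A W where
  carrier := {b | ∀ q : Ideal W, q.IsPrime → UH.ResAt (algebraMap A W) q b}
  mul_mem' {b c} hb hc q hq := by
    obtain ⟨a, s, hs, h⟩ := hb q hq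
    obtain ⟨a', s', hs', h'⟩ := hc q hq
    refine ⟨a * a', s * s', ?_, ?_⟩
    · rw [map_mul]; exact fun h0 => (hq.mem_or_mem h0).elim hs hs'
    · rw [show algebraMap A W (s * s') * (b * c) - algebraMap A W (a * a') =
        algebraMap A W s * b * (algebraMap A W s' * c - algebraMap A W a') +
          algebraMap A W a' * (algebraMap A W s * b - algebraMap A W a) by rw [map_mul, map_mul]; ring]
      exact q.add_mem (q.mul_mem_left _ h') (q.mul_mem_left _ h)
  add_mem' {b c} hb hc q hq := by
    obtain ⟨a, s, hs, h⟩ := hb q hq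
    obtain ⟨a', s', hs', h'⟩ := hc q hq
    refine ⟨a * s' + a' * s, s * s', ?_, ?_⟩
    · rw [map_mul]; exact fun h0 => (hq.mem_or_mem h0).elim hs hs'
    · rw [show algebraMap A W (s * s') * (b + c) - algebraMap A W (a * s' + a' * s) =
        algebraMap A W s' * (algebraMap A W s * b - algebraMap A W a) +
          algebraMap A W s * (algebraMap A W s' * c - algebraMap A W a') by
          simp only [map_add, map_mul]; ring]
      exact q.add_mem (q.mul_mem_left _ h) (q.mul_mem_left _ h')
  algebraMap_mem' r q hq := by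
    refine ⟨r, 1, ?_, by simp⟩
    rw [map_one]
    exact fun h0 => hq.ne_top ((Ideal.eq_top_iff_one q).2 h0)

theorem res_resSub [Algebra.IsIntegral A W] : UH.Res (algebraMap A (resSub A W)) := by
  intro q' hq' b
  have hint : (resSub A W).val.toRingHom.IsIntegral := fun w => by
    refine RingHom.IsIntegralElem.of_comp (f := algebraMap A (resSub A W)) ?_
    exact Algebra.IsIntegral.isIntegral (R := A) w
  obtain ⟨q, hq, rfl⟩ := UH.exists_over_of_injective _ Subtype.val_injective hint q'
  obtain ⟨a, s, hs, h⟩ := b.2 q hq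
  refine ⟨a, s, hs, ?_⟩
  show ((algebraMap A (resSub A W) s * b - algebraMap A (resSub A W) a : resSub A W) : W) ∈ q
  exact h

theorem range_le_resSub (g : V →ₐ[A] W) (hV : UH.Res (algebraMap A V)) : g.range ≤ resSub A W := by
  rintro _ ⟨c, rfl⟩ q hq
  obtain ⟨a, s, hs, h⟩ := hV (q.comap g) inferInstance c
  refine ⟨a, s, fun h0 => hs ?_, ?_⟩
  · show g (algebraMap A V s) ∈ q
    rwa [AlgHom.commutes]
  · show algebraMap A W s * g c - algebraMap A W a ∈ q
    have h0 : g (algebraMap A V s * c - algebraMap A V a) ∈ q := h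
    rwa [map_sub, map_mul, AlgHom.commutes, AlgHom.commutes] at h0

theorem res_of_equiv (e : W ≃ₐ[A] V) (h : UH.Res (algebraMap A W)) : UH.Res (algebraMap A V) := by
  intro q hq b
  obtain ⟨a, s, hs, h⟩ := h (q.comap e.toAlgHom) inferInstance (e.symm b)
  refine ⟨a, s, fun h0 => hs ?_, ?_⟩
  · show e (algebraMap A W s) ∈ q
    rwa [AlgEquiv.commutes]
  · have h0 : e (algebraMap A W s * e.symm b - algebraMap A W a) ∈ q := h
    rwa [map_sub, map_mul, AlgEquiv.commutes, AlgEquiv.commutes, AlgEquiv.apply_symm_apply] at h0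

section Relative

variable {B : Type u} [CommRing B] [Algebra A B]

theorem ker_le_of_dominant [IsDominant (Spec.map (CommRingCat.ofHom (algebraMap A B)))] :
    RingHom.ker (algebraMap A B) ≤ nilradical A :=
  (PrimeSpectrum.denseRange_comap_iff_ker_le_nilRadical (algebraMap A B)).1
    (Spec.map (CommRingCat.ofHom (algebraMap A B))).denseRange

/-- Push a subalgebra of the integral closure to a universal homeomorphism inside `B`. -/
theorem isUnivHomeo_map [IsDominant (Spec.map (CommRingCat.ofHom (algebraMap A B)))]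
    (D : Subalgebra A (integralClosure A B)) (hD : D ≤ UnivHomeoRing26.wn A (integralClosure A B)) :
    FlatMor.IsUnivHomeo
      (Spec.map (CommRingCat.ofHom (algebraMap A (D.map (integralClosure A B).val)))) := by
  let e : D ≃ₐ[A] D.map (integralClosure A B).val :=
    D.equivMapOfInjective _ Subtype.val_injective
  haveI : Algebra.IsIntegral A (D.map (integralClosure A B).val) := ⟨fun x => by
    rw [← isIntegral_algHom_iff (D.map (integralClosure A B).val).val Subtype.val_injective]
    obtain ⟨y, -, hy⟩ := x.2
    show IsIntegral A (x : B)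
    rw [← hy]; exact y.2⟩
  refine isUnivHomeo_of_pts (pts_of_equiv e (pts_subalgebra D hD)) fun a ha => ker_le_of_dominant (B := B) ?_
  exact congrArg Subtype.val (RingHom.mem_ker.1 ha)

theorem exists_factor {C : Type u} [CommRing C] [Algebra A C] (g : C →ₐ[A] B)
    (h : FlatMor.IsUnivHomeo (Spec.map (CommRingCat.ofHom (algebraMap A C)))) :
    ∃ g' : C →ₐ[A] integralClosure A B, (integralClosure A B).val.comp g' = g := by
  have : Algebra.IsIntegral A C := ⟨UnivHomeoRing26.isIntegral_of h⟩
  exact ⟨g.codRestrict _ fun c => (Algebra.IsIntegral.isIntegral (R := A) c).map g, rfl⟩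

theorem range_le_map {C : Type u} [CommRing C] [Algebra A C] (g : C →ₐ[A] B)
    (g' : C →ₐ[A] integralClosure A B) (hg : (integralClosure A B).val.comp g' = g)
    (D : Subalgebra A (integralClosure A B)) (h : g'.range ≤ D) :
    g.range ≤ D.map (integralClosure A B).val := by
  rw [← hg, AlgHom.range_comp]
  exact Subalgebra.map_mono h

end Relative

end Groth.Agent.WeakNorm12
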